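import Groth.Agent.Lib.ARSys.Sub
import Mathlib.AlgebraicTopology.DoldKan.Normalized
import Mathlib.AlgebraicTopology.DoldKan.Degeneracies
import Mathlib.AlgebraicTopology.SimplicialObject.Basic
import Mathlib.CategoryTheory.Limits.Shapes.FiniteLimits
import Mathlib.CategoryTheory.Functor.KanExtension.Adjunction
import Mathlib.CategoryTheory.Comma.StructuredArrow.Small
import Mathlib.Data.Finite.Sigma

/-!
# The simplicial subobject generated in low degrees
-/

set_option autoImplicit false

universe v u

open CategoryTheory CategoryTheory.Limits Opposite AlgebraicTopology Groth.Agent.AR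

set_option backward.isDefEq.respectTransparency false
set_option backward.isDefEq.respectTransparency.types false

namespace Groth.Agent.SimpGen8

variable {A : Type u} [Category.{v} A] [Abelian A]

theorem img_imageSubobject {X Y Z : A} (g : X ⟶ Y) (f : Y ⟶ Z) :
    img f (imageSubobject g) = imageSubobject (g ≫ f) := by
  refine le_antisymm ((gc_img f).l_le ?_) (imageSubobject_le _ ((imageSubobject ((imageSubobject g).arrow ≫ f)).factorThru _ ?_) (Subobject.factorThru_arrow _ _ _))
  · rw [image_le_subobject_iff, preim_factors, ← image_le_subobject_iff]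
  · exact img_factors f ((image_le_subobject_iff g _).1 le_rfl)

variable (U : SimplicialObject A) (n : ℕ)

/-- The generators. -/
noncomputable abbrev piece (m : ℕ) (φ : Σ i : Fin (n + 1), (SimplexCategory.mk m ⟶ SimplexCategory.mk i)) :
    Subobject (U.obj (op (SimplexCategory.mk m))) :=
  imageSubobject (U.map φ.2.op)

/-- The subobject generated in degrees at most `n`. -/
noncomputable def gen (m : ℕ) : Subobject (U.obj (op (SimplexCategory.mk m))) :=
  haveI := Fintype.ofFinite (Σ i : Fin (n + 1), (SimplexCategory.mk m ⟶ SimplexCategory.mk i))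
  Finset.univ.sup (piece U n m)

theorem piece_le_gen (m : ℕ) (φ : Σ i : Fin (n + 1), (SimplexCategory.mk m ⟶ SimplexCategory.mk i)) :
    piece U n m φ ≤ gen U n m :=
  haveI := Fintype.ofFinite (Σ i : Fin (n + 1), (SimplexCategory.mk m ⟶ SimplexCategory.mk i))
  Finset.le_sup (f := piece U n m) (@Finset.mem_univ _ (Fintype.ofFinite _) φ)

theorem gen_le {m : ℕ} {S : Subobject (U.obj (op (SimplexCategory.mk m)))}
    (h : ∀ φ, piece U n m φ ≤ S) : gen U n m ≤ S :=
  Finset.sup_le fun φ _ => h φ

theorem isLUB_gen (m : ℕ) : IsLUB (Set.range (piece U n m)) (gen U n m) :=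
  ⟨by rintro _ ⟨φ, rfl⟩; exact piece_le_gen U n m φ, fun _ hS => gen_le U n fun φ => hS ⟨φ, rfl⟩⟩

theorem img_gen_le (m m' : ℕ) (ψ : SimplexCategory.mk m' ⟶ SimplexCategory.mk m) :
    imageSubobject ((gen U n m).arrow ≫ U.map ψ.op) ≤ gen U n m' := by
  refine (gc_img (U.map ψ.op)).l_le (gen_le U n fun φ => (gc_img (U.map ψ.op)).le_u ?_)
  rw [img_imageSubobject, ← U.map_comp, ← op_comp]
  exact piece_le_gen U n m' ⟨φ.1, ψ ≫ φ.2⟩

theorem gen_eq_top {i : ℕ} (h : i ≤ n) : gen U n i = ⊤ := by
  refine top_le_iff.1 (le_of_forall_factors fun W x _ => ?_)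
  refine Subobject.factors_of_le x (piece_le_gen U n i ⟨⟨i, by omega⟩, 𝟙 _⟩) ?_
  have := imageSubobject_factors_comp_self (f := U.map (𝟙 (SimplexCategory.mk i)).op) x
  rw [op_id, U.map_id, Category.comp_id] at this
  simpa [piece] using this

theorem gen_inf_objX {m : ℕ} (h : n < m) : gen U n m ⊓ NormalizedMooreComplex.objX U m = ⊥ := by
  refine le_bot_iff.1 (le_of_forall_factors fun W x hx => ?_)
  obtain ⟨h1, h2⟩ := (Subobject.inf_factors _).1 hx
  have hle : gen U n m ≤ kernelSubobject ((DoldKan.PInfty (X := U)).f m) := gen_le U n fun φ => by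
    rw [piece, image_le_subobject_iff, kernelSubobject_factors_iff]
    exact DoldKan.degeneracy_comp_PInfty U m φ.2 fun hm => by
      have := SimplexCategory.len_le_of_mono φ.2
      have := φ.1.2
      simp at *
      omega
  have e1 : x ≫ (DoldKan.PInfty (X := U)).f m = 0 :=
    (kernelSubobject_factors_iff _ _).1 (Subobject.factors_of_le _ hle h1)
  have e2 : x ≫ (DoldKan.PInfty (X := U)).f m = x := by
    have h3 := HomologicalComplex.congr_hom (DoldKan.inclusionOfMooreComplexMap_comp_PInfty U) m
    rw [← Subobject.factorThru_arrow _ x h2, Category.assoc]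
    exact congrArg (_ ≫ ·) h3
  rw [e2] at e1
  rw [e1]
  exact Subobject.factors_zero

/-- The simplicial subobject generated in degrees at most `n`. -/
noncomputable def genObj : SimplicialObject A where
  obj m := (gen U n m.unop.len : A)
  map {m m'} ψ := (gen U n m'.unop.len).factorThru ((gen U n m.unop.len).arrow ≫ U.map ψ)
    ((image_le_subobject_iff ((gen U n m.unop.len).arrow ≫ U.map ψ.unop.op) (gen U n m'.unop.len)).1
      (img_gen_le U n m.unop.len m'.unop.len ψ.unop))
  map_id m := by
    rw [← cancel_mono (gen U n m.unop.len).arrow, Subobject.factorThru_arrow]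
    simp
  map_comp {m m' m''} f g := by
    rw [← cancel_mono (gen U n m''.unop.len).arrow, Subobject.factorThru_arrow, Category.assoc,
      Subobject.factorThru_arrow, Subobject.factorThru_arrow_assoc]
    simp

/-- Its inclusion. -/
noncomputable def genι : genObj U n ⟶ U where
  app m := (gen U n m.unop.len).arrow
  naturality m m' ψ := Subobject.factorThru_arrow (gen U n m'.unop.len) ((gen U n m.unop.len).arrow ≫ U.map ψ)
    ((image_le_subobject_iff ((gen U n m.unop.len).arrow ≫ U.map ψ.unop.op) (gen U n m'.unop.len)).1
      (img_gen_le U n m.unop.len m'.unop.len ψ.unop))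

variable [∀ F : (SimplexCategory.Truncated n)ᵒᵖ ⥤ A,
  (SimplexCategory.Truncated.inclusion n).op.HasLeftKanExtension F]

theorem gen_sk_eq_top (W : SimplicialObject.Truncated A n) (m : ℕ) :
    gen ((SimplicialObject.Truncated.sk n).obj W) n m = ⊤ := by
  let V := (SimplicialObject.Truncated.sk n).obj W
  haveI : IsIso ((SimplicialObject.truncation n).map (genι V n)) := by
    haveI : ∀ a, IsIso (((SimplicialObject.truncation n).map (genι V n)).app a) := fun a => by
      show IsIso (gen V n a.unop.obj.len).arrow
      rw [gen_eq_top V n a.unop.property]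
      infer_instance
    exact NatIso.isIso_of_isIso_app _
  let η : W ⟶ (SimplicialObject.truncation n).obj (genObj V n) :=
    (SimplicialObject.skAdj n).unit.app W ≫ inv ((SimplicialObject.truncation n).map (genι V n))
  have e : ((SimplicialObject.skAdj n).homEquiv W (genObj V n)).symm η ≫ genι V n = 𝟙 V := by
    apply ((SimplicialObject.skAdj n).homEquiv W V).injective
    rw [Adjunction.homEquiv_naturality_right, Equiv.apply_symm_apply, Adjunction.homEquiv_id]
    simp [η]
  have : Epi (gen V n m).arrow := by
    have h := NatTrans.congr_app e (op (SimplexCategory.mk m))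
    simp only [NatTrans.comp_app, NatTrans.id_app] at h
    haveI : Epi ((genι V n).app (op (SimplexCategory.mk m))) := epi_of_epi_fac h
    exact this
  haveI := isIso_of_mono_of_epi (gen V n m).arrow
  exact Subobject.eq_top_of_isIso_arrow _

theorem objX_sk_eq_bot (W : SimplicialObject.Truncated A n) {m : ℕ} (h : n < m) :
    NormalizedMooreComplex.objX ((SimplicialObject.Truncated.sk n).obj W) m = ⊥ := by
  simpa [gen_sk_eq_top n W m] using gen_inf_objX ((SimplicialObject.Truncated.sk n).obj W) n h

theorem isIso_counit_app {m : ℕ} (hm : m ≤ n) :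
    IsIso (((SimplicialObject.skAdj n).counit.app U).app (op (SimplexCategory.mk m))) := by
  haveI : ∀ F : (SimplexCategory.Truncated n)ᵒᵖ ⥤ A,
      (SimplexCategory.Truncated.inclusion n).op.HasPointwiseLeftKanExtension F := fun F Δ => by
    haveI : Finite (SimplexCategory.Truncated n) :=
      Finite.of_injective (fun a => (⟨a.obj.len, Nat.lt_succ_of_le a.property⟩ : Fin (n + 1)))
        fun a b h => ObjectProperty.FullSubcategory.ext (SimplexCategory.ext (by simpa using h))
    haveI : Finite (SimplexCategory.Truncated n)ᵒᵖ := Finite.of_equiv _ equivToOpposite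
    let J := CostructuredArrow (SimplexCategory.Truncated.inclusion n).op Δ
    haveI : Finite J := by
      refine Finite.of_injective (β := Σ a : (SimplexCategory.Truncated n)ᵒᵖ, (Δ.unop ⟶ a.unop.obj))
        (fun j => ⟨j.left, j.hom.unop⟩) fun j j' h => ?_
      obtain ⟨h1, h2⟩ := Sigma.mk.inj_iff.1 h
      obtain ⟨a, ⟨⟨⟩⟩, f⟩ := j
      obtain ⟨b, ⟨⟨⟩⟩, g⟩ := j'
      obtain rfl : a = b := h1
      obtain rfl : f = g := Quiver.Hom.unop_inj (eq_of_heq h2)
      rfl
    haveI : ∀ j j' : J, Finite (j ⟶ j') := fun j j' =>
      Finite.of_injective (fun f => f.left.unop.hom) fun f f' h =>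
        CostructuredArrow.hom_ext _ _ (Quiver.Hom.unop_inj (ObjectProperty.hom_ext _ h))
    letI : FinCategory J :=
      { fintypeObj := Fintype.ofFinite _, fintypeHom := fun j j' => Fintype.ofFinite _ }
    haveI : HasColimitsOfShape J A := hasColimitsOfShape_of_hasFiniteColimits A J
    exact (inferInstanceAs (HasColimit (CostructuredArrow.proj _ Δ ⋙ F)))
  haveI : IsIso (SimplicialObject.skAdj (C := A) n).unit := SimplicialObject.Truncated.sk_coreflective n
  have h := (SimplicialObject.skAdj n).right_triangle_components U
  haveI : IsIso ((SimplicialObject.truncation n).map ((SimplicialObject.skAdj n).counit.app U)) := by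
    haveI : IsIso ((SimplicialObject.skAdj n).unit.app ((SimplicialObject.truncation n).obj U) ≫
        (SimplicialObject.truncation n).map ((SimplicialObject.skAdj n).counit.app U)) := by
      rw [h]; exact IsIso.id _
    exact IsIso.of_isIso_comp_left ((SimplicialObject.skAdj n).unit.app _) _
  exact inferInstanceAs (IsIso (((SimplicialObject.truncation n).map ((SimplicialObject.skAdj n).counit.app U)).app
    (op ⟨SimplexCategory.mk m, hm⟩)))

theorem mono_counit_app : ∀ m : ℕ,
    Mono (((SimplicialObject.skAdj n).counit.app U).app (op (SimplexCategory.mk m)))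
  | 0 => haveI := isIso_counit_app U n (Nat.zero_le n); inferInstance
  | m + 1 => by
    by_cases hm : m + 1 ≤ n
    · haveI := isIso_counit_app U n hm; infer_instance
    haveI := mono_counit_app m
    let V := (SimplicialObject.Truncated.sk n).obj ((SimplicialObject.truncation n).obj U)
    let ε : V ⟶ U := (SimplicialObject.skAdj n).counit.app U
    refine Preadditive.mono_of_cancel_zero _ fun {W} (k : W ⟶ V.obj _) hk => ?_
    have hδ : ∀ i : Fin (m + 2), k ≫ V.δ i = 0 := fun i => by
      rw [← cancel_mono (ε.app (op (SimplexCategory.mk m))), Category.assoc, zero_comp,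
        SimplicialObject.δ, ε.naturality, ← Category.assoc]
      exact (congrArg (· ≫ U.map _) hk).trans zero_comp
    have h1 : (NormalizedMooreComplex.objX V (m + 1)).Factors k := by
      refine (Subobject.finset_inf_factors _).2 fun i _ => ?_
      exact (kernelSubobject_factors_iff _ _).2 (hδ i.succ)
    rw [objX_sk_eq_bot n _ (by omega), Subobject.bot_factors_iff_zero] at h1
    exact h1

theorem image_counit_app (m : ℕ) :
    imageSubobject (((SimplicialObject.skAdj n).counit.app U).app (op (SimplexCategory.mk m))) = gen U n m := by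
  let V := (SimplicialObject.Truncated.sk n).obj ((SimplicialObject.truncation n).obj U)
  let ε : V ⟶ U := (SimplicialObject.skAdj n).counit.app U
  have hp : ∀ φ, img (ε.app (op (SimplexCategory.mk m))) (piece V n m φ) = piece U n m φ := fun φ => by
    haveI := isIso_counit_app U n (Nat.lt_succ_iff.1 φ.1.2)
    rw [piece, piece, img_imageSubobject, ε.naturality]
    haveI : IsIso (ε.app (op (SimplexCategory.mk φ.1))) := isIso_counit_app U n (Nat.lt_succ_iff.1 φ.1.2)
    exact imageSubobject_iso_comp (ε.app _) (U.map φ.2.op)
  have h : img (ε.app (op (SimplexCategory.mk m))) ⊤ = imageSubobject (ε.app (op (SimplexCategory.mk m))) :=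
    imageSubobject_iso_comp _ _
  refine h.symm.trans (le_antisymm ?_ (gen_le U n fun φ => ?_))
  · rw [← gen_sk_eq_top n ((SimplicialObject.truncation n).obj U) m]
    refine (gc_img _).l_le (gen_le _ n fun φ => (gc_img _).le_u ?_)
    exact (hp φ).le.trans (piece_le_gen U n m φ)
  · exact (hp φ).ge.trans ((gc_img _).monotone_l le_top)

end Groth.Agent.SimpGen8
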